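import Cfsg.Agent.H635.SB.Tools
import Cfsg.Agent.H488.PQ.Height

/-!
# S4884, sporadic rows: the primes `q` with `q³ ∤ |S|` (helper642)

If all irreducible characters of odd degree are in the principal 2-block, and `q` divides `|S|`, but `q³` does not, then
there is a common nontrivial character of degree prime to `2 q` in the principal 2- and `q`-blocks.
-/

set_option autoImplicit false

open Cfsg

namespace Cfsg.Agent.H642.SB

open Cfsg.Agent.H317.PQ Cfsg.Agent.H709.PB Cfsg.Agent.H635.SB Cfsg.Agent.H635.PQ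

universe u

variable {G : Type u} [Group G] [Finite G] {q : ℕ}

theorem of_sq (hq : q.Prime) (h2 : NB 2 1 G) (hG : q ∣ Nat.card G) (hG' : ¬ q ^ 3 ∣ Nat.card G) : RowQ q G := by
  have : Fact q.Prime := ⟨hq⟩
  obtain ⟨y, hy⟩ := exists_prime_orderOf_dvd_card' q hG
  obtain ⟨χ, h1, h3, h4, h5⟩ := exists_odd_of_singular hq (y := y) (by rw [hy]) fun χ hχ _ hd =>
    absurd hχ (H488.PQ.not_mem_height hq one_ne_zero (by rwa [pow_one]) hG')
  exact ⟨χ, mem_of_nb Nat.prime_two h2 rfl (by rwa [pow_one]), h1, h3, h4, h5⟩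

end Cfsg.Agent.H642.SB
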