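import Cfsg.Agent.H642.SB.Sq
import Cfsg.Agent.H642.PQ.MEleven
import Cfsg.Agent.H642.PQ.MTwelve
import Cfsg.Agent.H968.PQ.Mathieu
import Cfsg.Agent.H269.CubeMatBase

/-!
# S4884: the rows of the Mathieu groups (helper642)

`RowQ q S` for `S = M₁₁, M₁₂, M₂₂, M₂₃, M₂₄` and every odd prime divisor `q` of `|S|`.
-/

set_option autoImplicit false

open Cfsg Subgroup

namespace Cfsg.Agent.H642.SB

open Cfsg.Agent.H317.PQ Cfsg.Agent.H709.PB Cfsg.Agent.H635.SB Cfsg.Agent.H635.PQ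
open Cfsg.Agent.SporadicA.GolayBase Cfsg.Agent.SporadicA.GolayPerm
open Cfsg.Agent.H968.PQ.Mathieu (nb_two ok8 c8)

universe u

/-! ### `M₁₁` -/

theorem row_m11 {q : ℕ} (hq : q.Prime) (hq2 : q ≠ 2) {S : Type u} [Group S] [Finite S] (h : Spor.IsoM11 S)
    (hd : q ∣ Nat.card S) : RowQ q S := by
  have hG := UGT.End.MEleven.isM11 h
  refine of_sq hq (H642.PQ.MEleven.nb2 hG) hd ?_
  rcases H642.PQ.MEleven.prime_cases hG hq hd with rfl | rfl | rfl | rfl
  · exact absurd rfl hq2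
  all_goals rw [hG.2]; norm_num

/-! ### `M₁₂` -/

theorem row_m12_model {q : ℕ} (hq : q.Prime) (hq2 : q ≠ 2) (hd : q ∣ Nat.card CoThreeStd.MTwelve.H) :
    RowQ q CoThreeStd.MTwelve.H := by
  have := H642.PQ.MTwelve.fin_H
  rcases H642.PQ.MTwelve.prime_cases hq hd with rfl | rfl | rfl | rfl
  · exact absurd rfl hq2
  · exact RowQ.of_nb (d := 55) hq H642.PQ.MTwelve.nb2 H642.PQ.MTwelve.nb3 (H651.Two.Mathieu.deg_m12).2 (by norm_num)
      (by norm_num) (by norm_num)
  all_goals exact of_sq hq H642.PQ.MTwelve.nb2 hd (by rw [CoThreeStd.MTwelve.card_H]; norm_num)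

theorem row_m12 {q : ℕ} (hq : q.Prime) (hq2 : q ≠ 2) {S : Type u} [Group S] [Finite S] (h : Spor.IsoM12 S)
    (hd : q ∣ Nat.card S) : RowQ q S := by
  obtain ⟨e⟩ := h
  have := H642.PQ.MTwelve.fin_H
  have h1 : q ∣ Nat.card CoThreeStd.MTwelve.H := by rwa [Nat.card_congr e.toEquiv] at hd
  exact RowQ.of_equiv e.symm (row_m12_model hq hq2 h1)

/-! ### `M₂₂` -/

theorem nb2_22 : NB 2 1 Spor.M22 := by
  have hcard : Nat.card Spor.M22 = 443520 := H715.Fpr.MathData.card22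
  have : Finite Spor.M22 := Nat.finite_of_card_ne_zero (by rw [hcard]; norm_num)
  obtain ⟨x, hx⟩ := H729.M22Deg.exists_el ok8 (by decide +kernel) (by decide +kernel)
  exact nb_two H729.M22Deg.inc H729.M22Deg.inc_injective hx

theorem row_m22 {q : ℕ} (hq : q.Prime) (hq2 : q ≠ 2) {S : Type u} [Group S] [Finite S] (h : Spor.IsoM22 S)
    (hd : q ∣ Nat.card S) : RowQ q S := by
  obtain ⟨e⟩ := h
  have hcard : Nat.card Spor.M22 = 443520 := H715.Fpr.MathData.card22
  have : Finite Spor.M22 := Nat.finite_of_card_ne_zero (by rw [hcard]; norm_num)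
  have h1 : q ∣ Nat.card Spor.M22 := by rwa [Nat.card_congr e.toEquiv] at hd
  refine RowQ.of_equiv e.symm (of_sq hq nb2_22 h1 ?_)
  rw [hcard] at h1 ⊢
  have hP := H852.IMMathieu.prime_cases hq [2, 2, 2, 2, 2, 2, 2, 3, 3, 5, 7, 11] (by decide) h1 (by decide)
  simp only [List.mem_cons, List.not_mem_nil, or_false] at hP
  have hP' : q = 3 ∨ q = 5 ∨ q = 7 ∨ q = 11 := by omega
  rcases hP' with rfl | rfl | rfl | rfl <;> norm_num

/-! ### `M₂₃` -/

theorem nb2_23 : NB 2 1 Spor.M23 := by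
  have hcard : Nat.card Spor.M23 = 10200960 := H715.Fpr.MathData.card23
  have : Finite Spor.M23 := Nat.finite_of_card_ne_zero (by rw [hcard]; norm_num)
  obtain ⟨x, hx⟩ := H715.Fpr.MathData.exists_el23 ok8 (by decide +kernel)
  exact nb_two H729.PairMathieu.inc23 H729.PairMathieu.inc23_injective hx

theorem row_m23 {q : ℕ} (hq : q.Prime) (hq2 : q ≠ 2) {S : Type u} [Group S] [Finite S] (h : Spor.IsoM23 S)
    (hd : q ∣ Nat.card S) : RowQ q S := by
  obtain ⟨e⟩ := h
  have hcard : Nat.card Spor.M23 = 10200960 := H715.Fpr.MathData.card23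
  have : Finite Spor.M23 := Nat.finite_of_card_ne_zero (by rw [hcard]; norm_num)
  have h1 : q ∣ Nat.card Spor.M23 := by rwa [Nat.card_congr e.toEquiv] at hd
  refine RowQ.of_equiv e.symm (of_sq hq nb2_23 h1 ?_)
  rw [hcard] at h1 ⊢
  have hP := H852.IMMathieu.prime_cases hq [2, 2, 2, 2, 2, 2, 2, 3, 3, 5, 7, 11, 23] (by decide) h1 (by decide)
  simp only [List.mem_cons, List.not_mem_nil, or_false] at hP
  have hP' : q = 3 ∨ q = 5 ∨ q = 7 ∨ q = 11 ∨ q = 23 := by omega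
  rcases hP' with rfl | rfl | rfl | rfl | rfl <;> norm_num

/-! ### `M₂₄` -/

theorem card_m24 : Nat.card M24 = 244823040 := H715.Fpr.MathData.card24

theorem fin_m24 : Finite M24 := Nat.finite_of_card_ne_zero (by rw [card_m24]; norm_num)

theorem nb2_24 : NB 2 1 M24 := by
  have := fin_m24
  exact nb_two (MonoidHom.id M24) Function.injective_id (x := SporadicStructure.M24El.el c8) rfl

theorem card_cent_CM (x : M24) :
    Nat.card (centralizer ({x} : Set M24)) = Nat.card (H269.CubeMat.CM (x : Equiv.Perm GolayPt)) := by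
  refine Nat.card_congr ⟨fun c => ⟨c.1.1, H269.CubeMat.mem_CM.2 ⟨c.1.2, ?_⟩⟩, fun c =>
    ⟨⟨c.1, (H269.CubeMat.mem_CM.1 c.2).1⟩, ?_⟩, fun c => rfl, fun c => rfl⟩
  · exact congrArg Subtype.val (mem_centralizer_singleton_iff.1 c.2)
  · exact mem_centralizer_singleton_iff.2 (Subtype.ext (H269.CubeMat.mem_CM.1 c.2).2)

theorem nb3_24 : NB 3 1 M24 := by
  have : Fact (Nat.Prime 3) := ⟨Nat.prime_three⟩
  have := fin_m24
  refine NB.of_orders (a := 3) (by rw [card_m24]; norm_num) fun x hx hx3 => ?_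
  have hd := orderOf_dvd_natCard x
  rw [card_m24] at hd
  have hP := H852.IMMathieu.prime_cases hx [2, 2, 2, 2, 2, 2, 2, 2, 2, 2, 3, 3, 3, 5, 7, 11, 23] (by decide) hd (by decide)
  simp only [List.mem_cons, List.not_mem_nil, or_false] at hP
  have hP' : orderOf x = 2 ∨ orderOf x = 5 ∨ orderOf x = 7 ∨ orderOf x = 11 ∨ orderOf x = 23 := by omega
  have key : ∀ {r m : ℕ}, orderOf x = r → (∀ R : Subgroup M24, Nat.card R = r → Nat.card (centralizer (R : Set M24)) = m) →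
      ¬ 3 ^ (3 + 1 - 1) ∣ m → ¬ 3 ^ (3 + 1 - 1) ∣ Nat.card (centralizer ({x} : Set M24)) := by
    intro r m hr hR hm
    have h1 := hR (zpowers x) (by rw [Nat.card_zpowers]; exact hr)
    rw [H642.PQ.MTwelve.cent_zpowers] at h1
    rwa [h1]
  rcases hP' with h | h | h | h | h
  · have h1 : x * x = 1 := by rw [← pow_two, ← h, pow_orderOf_eq_one]
    have h2 : x ≠ 1 := by
      rintro rfl
      rw [orderOf_one] at h
      exact absurd h (by decide)
    rw [card_cent_CM]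
    rcases H269.CubeMat.card_cent x.2 (congrArg Subtype.val h1) (fun h3 => h2 (Subtype.ext h3)) with
      ⟨-, h4, -⟩ | ⟨-, h4, -⟩ <;> rw [h4] <;> norm_num
  · exact key h (fun R hR => (H715.Fpr.MathData.cn24_5 hR).1) (by norm_num)
  · exact key h (fun R hR => (H715.Fpr.MathData.cn24_7 hR).1) (by norm_num)
  · exact key h (fun R hR => (H715.Fpr.MathData.cn24_11 hR).1) (by norm_num)
  · exact key h (fun R hR => (H715.Fpr.MathData.cn24_23 hR).1) (by norm_num)

theorem row_m24_model {q : ℕ} (hq : q.Prime) (hq2 : q ≠ 2) (hd : q ∣ Nat.card M24) : RowQ q M24 := by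
  have := fin_m24
  have h24 := H417.RecogMathieu.isM24 (⟨MulEquiv.refl _⟩ : Spor.IsoM24 M24)
  have hd' := hd
  rw [card_m24] at hd'
  have hP := H852.IMMathieu.prime_cases hq [2, 2, 2, 2, 2, 2, 2, 2, 2, 2, 3, 3, 3, 5, 7, 11, 23] (by decide) hd' (by decide)
  simp only [List.mem_cons, List.not_mem_nil, or_false] at hP
  have hP' : q = 3 ∨ q = 5 ∨ q = 7 ∨ q = 11 ∨ q = 23 := by omega
  rcases hP' with rfl | rfl | rfl | rfl | rfl
  · exact RowQ.of_nb (d := 1771) hq nb2_24 nb3_24 (H417.DegMTwentyFour.mem_1771 h24) (by norm_num) (by norm_num)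
      (by norm_num)
  all_goals exact of_sq hq nb2_24 hd (by rw [card_m24]; norm_num)

theorem row_m24 {q : ℕ} (hq : q.Prime) (hq2 : q ≠ 2) {S : Type u} [Group S] [Finite S] (h : Spor.IsoM24 S)
    (hd : q ∣ Nat.card S) : RowQ q S := by
  obtain ⟨e⟩ := h
  have := fin_m24
  have h1 : q ∣ Nat.card M24 := by rwa [Nat.card_congr e.toEquiv] at hd
  exact RowQ.of_equiv e.symm (row_m24_model hq hq2 h1)

end Cfsg.Agent.H642.SB
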